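import Cfsg.Agent.H394.PBTools_m3
import Cfsg.Agent.H713.Spor.McL
import Cfsg.Agent.H852.IMMcL
import Cfsg.Agent.Leech.Dot16
import Cfsg.Agent.Prune
set_option linter.all false
prune_inst 0x7f00000000000000000000000000000000000000000000000000000000000000000000000000000000000000000000000000000000000000000000000000000000000000000000000000000000000000003fffffffffffffffffffffffffffbeffbdffffffff
open scoped Cfsg.Agent.FastGrp

/-!
# `McL`: an irreducible character of degree 1750 (helper846)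

The difference of the permutation characters of degrees 2025 and 275.
-/

set_option autoImplicit false

namespace Cfsg.Agent.H846.PB.McL

open Cfsg MulAction Cfsg.Agent.Characters.Core
open Cfsg.Agent.Leech.Co0Elts Cfsg.Agent.Leech.Basic Cfsg.Agent.SporadicRecognition.RankThree
  Cfsg.Agent.SporadicRecognition.TwoEmb Cfsg.Agent.SporadicRecognition.HSRank
  Cfsg.Agent.SporadicRecognition.HSParam Cfsg.Agent.SporadicRecognition.RankThreeOf
  Cfsg.Agent.SporadicRecognition.McLAssemble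
open Cfsg.Agent.H852.IMMcL (Pts pts_inv sub_four facts')
open Cfsg.Agent.H713.Spor Cfsg.Agent.H464.PermIrr

/-- `(1, -3, 1²²)` -/
abbrev W : ↥leechLattice := -(Spor.leechV + Spor.leechU)

theorem hKe : K (-Spor.leechV) Spor.leechU = K Spor.leechU W := by
  rw [← k_neg, k_eq']

/-! ### explicit vectors -/

/-- an octad containing `∞` and `0` -/
def O1 : Finset GolayPt := {none, some 0, some 2, some 4, some 5, some 6, some 10, some 11}
/-- an octad containing `∞`, not `0` -/
def O2 : Finset GolayPt := {none, some 1, some 3, some 10, some 12, some 17, some 18, some 20}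

theorem qr_mem (t : ZMod 23) : qrWord t ∈ golayCode := Submodule.subset_span (Set.mem_union_left _ ⟨t, rfl⟩)
theorem one_mem' : (1 : GolayPt → ZMod 2) ∈ golayCode := Submodule.subset_span (Set.mem_union_right _ rfl)

theorem O1_mem : O1 ∈ supports (golayCode : Set (GolayPt → ZMod 2)) :=
  ⟨1 + (qrWord 0 + (qrWord 1 + qrWord 20)), Submodule.add_mem _ one_mem' (Submodule.add_mem _ (qr_mem 0)
    (Submodule.add_mem _ (qr_mem 1) (qr_mem 20))), by decide +kernel⟩

theorem O2_mem : O2 ∈ supports (golayCode : Set (GolayPt → ZMod 2)) :=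
  ⟨1 + (qrWord 0 + (qrWord 1 + qrWord 9)), Submodule.add_mem _ one_mem' (Submodule.add_mem _ (qr_mem 0)
    (Submodule.add_mem _ (qr_mem 1) (qr_mem 9))), by decide +kernel⟩

/-- `4 (e_∞ + e_1)` -/
def v1 : GolayPt → ℤ := fun p => if p = none ∨ p = some 1 then 4 else 0
/-- `2` on an octad -/
def v2 : GolayPt → ℤ := fun p => if p ∈ O1 then 2 else 0
/-- `(3, 1, ±1)` -/
def v3 : GolayPt → ℤ := fun p => if p = none then 3 else if p ∈ O2 then -1 else 1

theorem v1_mem : v1 ∈ leechSet := Spor.mem_leechSet_of_const_mod_four v1 0 0 (by decide) (by decide) (by decide)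

theorem v2_mem : v2 ∈ leechSet :=
  Cfsg.Agent.Leech.Dot16.mem_leechSet_of_two v2 O1 2 0 0 O1_mem (by norm_num) (by norm_num) (by norm_num)
    (by decide +kernel) (by decide +kernel) (by decide +kernel)

theorem v3_mem : v3 ∈ leechSet :=
  Cfsg.Agent.Leech.Dot16.mem_leechSet_of_two v3 O2 3 1 1 O2_mem (by norm_num) (by norm_num) (by norm_num)
    (by decide +kernel) (by decide +kernel) (by decide +kernel)

def Y1 : ↥leechLattice := ⟨v1, AddSubgroup.subset_closure v1_mem⟩
def Y2 : ↥leechLattice := ⟨v2, AddSubgroup.subset_closure v2_mem⟩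
def Y3 : ↥leechLattice := ⟨v3, AddSubgroup.subset_closure v3_mem⟩

/-! ### the 275 points -/

/-- the 275 points -/
def X275 : Set ↥leechLattice := {x : ↥leechLattice | sqNorm (x : GolayPt → ℤ) = 32 ∧
    sqNorm (((-Spor.leechV : ↥leechLattice) - x) : GolayPt → ℤ) = 32 ∧
    dotInt (Spor.leechU : GolayPt → ℤ) (x : GolayPt → ℤ) = 16}

theorem Y1_mem : Y1 ∈ X275 := by
  refine ⟨?_, ?_, ?_⟩ <;> decide +kernel
theorem Y2_mem : Y2 ∈ X275 := by
  refine ⟨?_, ?_, ?_⟩ <;> decide +kernel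
theorem Y3_mem : Y3 ∈ X275 := by
  refine ⟨?_, ?_, ?_⟩ <;> decide +kernel

theorem U'_mem : Spor.leechU' ∈ Pts Spor.leechU W := by
  refine ⟨?_, ?_, ?_⟩ <;> decide +kernel

theorem dots : dotInt (Spor.leechU' : GolayPt → ℤ) (Y1 : GolayPt → ℤ) = 16 ∧
    dotInt (Spor.leechU' : GolayPt → ℤ) (Y2 : GolayPt → ℤ) = 0 ∧
    dotInt (Spor.leechU' : GolayPt → ℤ) (Y3 : GolayPt → ℤ) = 8 := by
  refine ⟨?_, ?_, ?_⟩ <;> decide +kernel

theorem x_inv : ∀ g ∈ K Spor.leechU W, ∀ x ∈ X275, g • x ∈ X275 := by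
  intro g hg
  rw [← hKe] at hg
  obtain ⟨hgu, hgv⟩ := hg
  rintro x ⟨hx1, hx2, hx3⟩
  refine ⟨?_, ?_, ?_⟩
  · rw [sqNorm_smul]; exact hx1
  · have h3 := sqNorm_smul g ((-Spor.leechV : ↥leechLattice) - x)
    have h4 : g • ((-Spor.leechV : ↥leechLattice) - x) = (-Spor.leechV : ↥leechLattice) - g • x := by
      rw [sub_eq_add_neg, smul_add_co0 g (-Spor.leechV) (-x), smul_neg_co0 g x,
        show g • (-Spor.leechV : ↥leechLattice) = -Spor.leechV from hgu, ← sub_eq_add_neg]
    rw [h4] at h3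
    exact h3.trans hx2
  · have := dotInt_smul g Spor.leechU x
    rw [show g • Spor.leechU = Spor.leechU from hgv] at this
    rw [this]; exact hx3

theorem rank_three :
    letI := act (K Spor.leechU W) X275 x_inv
    Nat.card ↥X275 = 275 ∧ Nat.card (orbitRel.Quotient ↥(K Spor.leechU W) (↥X275 × ↥X275)) ≤ 3 := by
  classical
  obtain ⟨h1, h2⟩ := Cfsg.Agent.S1580.result (-Spor.leechV) Spor.leechU norm_negV ⟨norm_U, norm_sub⟩
  have hS := fun x hx => Cfsg.Agent.S1581.result (-Spor.leechV) Spor.leechU x norm_negV ⟨norm_U, norm_sub⟩ hx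
  change X275.ncard = 275 at h1
  have hmemK : ∀ g : ↥Co0, g • (-Spor.leechV : ↥leechLattice) = -Spor.leechV → g • Spor.leechU = Spor.leechU →
      g ∈ K Spor.leechU W := by
    intro g hg1 hg2
    rw [← hKe]
    exact ⟨hg1, hg2⟩
  obtain ⟨x0, hx0⟩ : X275.Nonempty := ⟨Y1, Y1_mem⟩
  have hfinX : X275.Finite := Set.finite_of_ncard_pos (by rw [h1]; norm_num)
  obtain ⟨h3, h4, h5⟩ := hS x0 hx0
  have hx00 : dotInt (x0 : GolayPt → ℤ) (x0 : GolayPt → ℤ) = 32 := by
    rw [← hx0.1]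
    exact Finset.sum_congr rfl fun i _ => (sq _).symm
  have hdich : ∀ y ∈ X275, y ≠ x0 → dotInt (x0 : GolayPt → ℤ) (y : GolayPt → ℤ) = 8 ∨
      dotInt (x0 : GolayPt → ℤ) (y : GolayPt → ℤ) = 16 := by
    intro y hy hne
    set S8 : Set ↥leechLattice := {y | y ∈ X275 ∧ dotInt (x0 : GolayPt → ℤ) (y : GolayPt → ℤ) = 8} with hS8
    set S16 : Set ↥leechLattice :=
      {y | y ∈ X275 ∧ y ≠ x0 ∧ dotInt (x0 : GolayPt → ℤ) (y : GolayPt → ℤ) = 16} with hS16
    have f8 : S8.Finite := hfinX.subset fun y hy => hy.1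
    have f16 : S16.Finite := hfinX.subset fun y hy => hy.1
    have hd : Disjoint S8 S16 := by
      rw [Set.disjoint_left]
      rintro z hz hz'
      have e1 := hz.2
      have e2 := hz'.2.2
      omega
    have hd' : x0 ∉ S8 ∪ S16 := by
      rintro (hz | hz)
      · have e1 := hz.2
        omega
      · exact hz.2.1 rfl
    have hU : insert x0 (S8 ∪ S16) = X275 := by
      apply Set.eq_of_subset_of_ncard_le _ _ hfinX
      · rintro z (rfl | hz | hz)
        · exact hx0
        · exact hz.1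
        · exact hz.1
      · have e3 : S8.ncard = 112 := h3
        have e4 : S16.ncard = 162 := h4
        rw [Set.ncard_insert_of_notMem hd' (f8.union f16), Set.ncard_union_eq hd f8 f16, e3, e4, h1]
    have hy' : y ∈ insert x0 (S8 ∪ S16) := by rw [hU]; exact hy
    rcases hy' with h6 | h6 | h6
    · exact absurd h6 hne
    · exact Or.inl h6.2
    · exact Or.inr h6.2.2
  let _ := act (K Spor.leechU W) X275 x_inv
  obtain ⟨b, c, hr⟩ := exists_isRankThree (K Spor.leechU W) X275 x_inv (k := 112) (l := 162) (by rw [h1])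
    (by norm_num) (by norm_num)
    (by norm_num) ⟨x0, hx0⟩ (fun y => dotInt (x0 : GolayPt → ℤ) (y : GolayPt → ℤ) = 8)
    (by
      intro x hx x' hx'
      obtain ⟨g, hg1, hg2, hg3⟩ := h2 x hx x' hx'
      exact ⟨g, hmemK g hg1 hg2, hg3⟩)
    (by
      intro g hg hg0 y hy
      have := dotInt_smul g x0 y
      rw [show g • x0 = x0 from hg0] at this
      rw [this]; exact hy)
    (by
      intro h
      have h7 : dotInt (x0 : GolayPt → ℤ) (x0 : GolayPt → ℤ) = 8 := h
      omega)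
    h3
    (by
      rw [← h4]
      congr 1
      ext y
      constructor
      · rintro ⟨hy, hne, h8⟩
        refine ⟨hy, hne, ?_⟩
        rcases hdich y hy hne with h9 | h9
        · exact absurd h9 h8
        · exact h9
      · rintro ⟨hy, hne, h8⟩
        refine ⟨hy, hne, ?_⟩
        intro h9
        have h9' : dotInt (x0 : GolayPt → ℤ) (y : GolayPt → ℤ) = 8 := h9
        omega)
    (by
      intro y hy y' hy' hne hne' h
      have h10 : dotInt (x0 : GolayPt → ℤ) (y : GolayPt → ℤ) = dotInt (x0 : GolayPt → ℤ) (y' : GolayPt → ℤ) := by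
        have h' : dotInt (x0 : GolayPt → ℤ) (y : GolayPt → ℤ) = 8 ↔ dotInt (x0 : GolayPt → ℤ) (y' : GolayPt → ℤ) = 8 := h
        rcases hdich y hy hne with h11 | h11 <;> rcases hdich y' hy' hne' with h12 | h12 <;> omega
      obtain ⟨g, hg1, hg2, hg3, hg4⟩ := h5 y hy y' hy' hne hne' h10
      exact ⟨g, hmemK g hg1 hg2, hg3, hg4⟩)
  have : Finite ↥X275 := hfinX.to_subtype
  refine ⟨by rw [Nat.card_coe_set_eq, h1], ?_⟩
  exact RankThree.card_orbitals hr

/-- **the character of degree 1750** -/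
theorem exists_1750 : ∃ χ : IrrCharacter ↥(K Spor.leechU W), charDegree (χ : ↥(K Spor.leechU W) → ℂ) = 1750 := by
  classical
  obtain ⟨-, hG⟩ := facts'
  have hfin : Finite ↥(K Spor.leechU W) := Nat.finite_of_card_ne_zero (by
    have : Nat.card ↥(K Spor.leechU W) = 898128000 := hG
    rw [this]; norm_num)
  let _ := act (K Spor.leechU W) X275 x_inv
  let _ := act (K Spor.leechU W) (Pts Spor.leechU W) (pts_inv Spor.leechU W)
  obtain ⟨hX, hX3⟩ := rank_three
  obtain ⟨hP, a, b, hsub⟩ := sub_four norm_U norm_W dot_UW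
  have hfX : Finite ↥X275 := Nat.finite_of_card_ne_zero (by rw [hX]; norm_num)
  have hfP : Finite ↥(Pts Spor.leechU W) := Nat.finite_of_card_ne_zero (by
    have : Nat.card ↥(Pts Spor.leechU W) = 2025 := hP
    rw [this]; norm_num)
  have h4 : Nat.card (orbitRel.Quotient ↥(K Spor.leechU W) (↥(Pts Spor.leechU W) × ↥(Pts Spor.leechU W))) ≤ 4 :=
    le_of_eq hsub.card_orbits
  have h3 : 3 ≤ Nat.card (orbitRel.Quotient ↥(K Spor.leechU W) (↥(Pts Spor.leechU W) × ↥X275)) := by
    refine le_card_orbits ↥(K Spor.leechU W)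
      (f := fun z : ↥(Pts Spor.leechU W) × ↥X275 => dotInt ((z.1 : ↥leechLattice) : GolayPt → ℤ)
        ((z.2 : ↥leechLattice) : GolayPt → ℤ))
      (fun g z => dotInt_smul (g : ↥Co0) (z.1 : ↥leechLattice) (z.2 : ↥leechLattice))
      (![(⟨Spor.leechU', U'_mem⟩, ⟨Y1, Y1_mem⟩), (⟨Spor.leechU', U'_mem⟩, ⟨Y2, Y2_mem⟩),
        (⟨Spor.leechU', U'_mem⟩, ⟨Y3, Y3_mem⟩)]) ?_
    obtain ⟨e1, e2, e3⟩ := dots
    have hval : (fun i : Fin 3 => (fun z : ↥(Pts Spor.leechU W) × ↥X275 =>
        dotInt ((z.1 : ↥leechLattice) : GolayPt → ℤ) ((z.2 : ↥leechLattice) : GolayPt → ℤ))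
        ((![(⟨Spor.leechU', U'_mem⟩, ⟨Y1, Y1_mem⟩), (⟨Spor.leechU', U'_mem⟩, ⟨Y2, Y2_mem⟩),
        (⟨Spor.leechU', U'_mem⟩, ⟨Y3, Y3_mem⟩)] : Fin 3 → ↥(Pts Spor.leechU W) × ↥X275) i)) = ![16, 0, 8] := by
      funext i
      fin_cases i
      · exact e1
      · exact e2
      · exact e3
    rw [hval]
    decide
  have hirr := irr_sub_ge ↥(K Spor.leechU W) ↥(Pts Spor.leechU W) ↥X275
    (by
      have : Nat.card ↥(Pts Spor.leechU W) = 2025 := hP
      rw [this, hX]; norm_num) h4 h3 hX3 (by norm_num)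
  refine ⟨⟨_, hirr⟩, ?_⟩
  apply Cfsg.Agent.Blocks.Basic.charDegree_of_eq
  have : Nat.card ↥(Pts Spor.leechU W) = 2025 := hP
  change (pc ↥(K Spor.leechU W) ↥(Pts Spor.leechU W) - pc ↥(K Spor.leechU W) ↥X275) 1 = ((1750 : ℕ) : ℂ)
  rw [Pi.sub_apply, pc_one, pc_one, this, hX]
  norm_num

end Cfsg.Agent.H846.PB.McL
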