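import Cfsg.Agent.H846.PB.HS
import Cfsg.Agent.H846.PB.McLDeg
import Cfsg.Agent.H904.McLCent
import Cfsg.Agent.H394.PBTools_m3
import Cfsg.Agent.H723.Spor.JFour
import Cfsg.Agent.H492.IMPair_m3
import Cfsg.Agent.S5569
import Cfsg.Agent.S5567
import Cfsg.Agent.H633.ElJ4
import Cfsg.Agent.H877.IMJ4
import Cfsg.Agent.FastGrp
import Cfsg.Agent.Prune
set_option linter.all false

section
prune_inst 0x7f00000000000000000000000000000000000000000000000000000000000000000000000000000000000000000000000000000000000000000000000000000000000000000000000000000000000000003fffffffffffffffffffffffffffbeffbdffffffff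

-- part: H846/PB/McL
section
set_option linter.all false
open scoped Cfsg.Agent.FastGrp

/-!
# S4826: the row of `McL` (helper846)

`p = 2, 3, 7` : the character of degree 252 is in the principal 11-block; `p = 5` : the same for the degree 1750;
`p = 11` : the character of degree 22 is in the principal 3-block, since an element of order 9 has a centralizer of
order 27.
-/

set_option autoImplicit false

namespace Cfsg.Agent.H846.PB

open Cfsg Subgroup Equiv Cfsg.Agent.H133.PB Cfsg.Agent.H904.CentChk Cfsg.Agent.H904.McLCent
open Cfsg.Agent.SporadicA.PermTab Cfsg.Agent.McLType.X275 Cfsg.Agent.McLType.Gens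

universe u

/-- an element of order 9 -/
def t9 : ℕ := 0x448650db1fa3ac5a8f217242c640e319a350240ff1de3805f0b01f62e0888861b22a8658d11483e04c909078340851031ca284880cf1802684a8bb1242606b0972182b86610607a3b44f8c91f8250250450723381d0b41a411c6e8f5098240248da16236072105084378800d31143c0488e21403b06e0b6208278620af11041c5f83f1d22dc4e0df15a39c1d88f184438788461163a0590f41362987f0f621a2cc8108718a3e4638f71aa2b07984307c3e85d0ab178230808bd21e318468e109630c750550f80442902e0ba1c43607a03c1f83c05e06c0042f8070ee1a41682206a0cc1a07b008030350030ea1882782904a1cc3006d1040a01901b0dc200418090621e43385a0ca0bc1807f0c81840a09310a288220e61523b82009614a4204e8a70702246b8c11502385184103a1c0028230b6144390200261ac0300a038150158020a61403780f0481700581004e0b04201f0cc1582b8080b21f42701601a0381b82602a0643a0120341343402a0ec05c2c0180c608440800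
/-- an element of order 3 commuting with it -/
def tz : ℕ := 0x448618e21f8360820c821a27c670f411c2bc5590b1323f86a09c1720f8430e7188444608a21de128730d61ae4146e8f518e1306003f08a3cc6f8f121e3c0210b721229c5e0b80963ac740a515c41c698c61d4420708ad1403d85304807038c460b6122228590901ee438588bf1f4340518401f62d0218d52143145a8891580e87f83b1602585d08711a22c808e41e4328688ec2202a4220e51f211c498d91764005089e1960f04c1031103241e8cd13a3f44d90c12e368830941b62a87008f1662484a8840fc208190280b0018358710300b41600a0cc1fc3a8260360540b87301a1b832004042184270810ce0883501205e1703284f0be134048360b61783d0760480782a8780d21440180501814c2d0411d23485e8c21f033c6f0dc092290770ed1504084283917c3304d04606e1883a0290661a0078630600082c82a0321e4070140e40d40981c0561dc3e8250620200e8570e01ec1181a0f80b8138800401b40886f03e0d0080600d8150008560a020c0380b0a40582e800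
/-- the chain for `t9` -/
def bs9 : List (List ℕ × ℕ) := [([51, 91, 110, 51, 91, 110, 51, 91, 110], 3), ([56, 65, 157, 258, 224, 262, 212, 180, 63], 9), ([1, 129, 82, 47, 19, 13, 116, 7, 118], 1)]
/-- the points of the chain -/
def F9 : List ℕ := [51, 91, 110, 51, 91, 110, 51, 91, 110, 56, 65, 157, 258, 224, 262, 212, 180, 63, 1, 129, 82, 47, 19, 13, 116, 7, 118]
/-- the patterns -/
def lit9 : List ℕ := [0x41041041041040000000000000000000000000002082082082082, 0x1000040001001001000000041081001000040042040040001001, 0x40001000040001041001000000001000000042001040001040, 0x40001000040000040040040040001000000040002040040001001, 0x1000040001000001041040000001000000000042001040001040, 0x40001000040040040001001000040000040002040040001001, 0x1041041040001040000040002000040001000, 0x40001000041000000041040001000040042042040040001001, 0x40001000040000000001041040001001000000002001040001040, 0x1000040001000040040040001000000040000042040040001001, 0x40001000041000041040000000001000000042001040001040, 0x1000040001000000001041001001000001000002001040001040, 0x40001000041041040000000000000001040002000041041000,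 0x40001000040000000041040040000040042040042040040001001, 0x1000040001000001041040000000000000001042000041041000, 0x1000040001000001001041000001000000000042000041041000, 0x40001000040000001001001040001000000040002040040001001, 0x41041041000001000000040042000040001000, 0x40001000040000041041000000000000000041002000041041000, 0x40001000040001041001000001001081001002040040001001, 0x1000040001000001000041040001000001000002001040001040, 0x40001000040000040041040040040000000002000041041000, 0x40001000040000040001041000040000040002001040001040, 0x41041041000041000001002000040001000, 0x40001000040000041041000040040000000002001040001040, 0x40001000040000041041000040000000000042000041041000, 0x40001000041000000041040000040000040002001040001040, 0x1001041040040001000000040042000040001000, 0x40001000040000000001041040001001000000002000041041000, 0x41041041001001000000042000040001000, 0x40001000040000041040000040001000000040002001040001040, 0x1000040001000000000041041000040040000002000041041000, 0x40001000040040040041000040000001000002040040001001, 0x40001000040000000041040040040000040000002001040001040,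 0x1041040040040000000040040042000040001000, 0x40001000041001041000000000000000040042000041041000, 0x40001000040000040041040000040000000001002000041041000, 0x40001000041000040040040000001000000042040040001001, 0x1000040001000000040040041000040000001002040040001001, 0x40001000041000000001041000001001000002000041041000, 0x1000040001000041040040000000040000001002001040001040, 0x1000040001000001041040000001000000000042000041041000, 0x1000040001000000000041041000040040000002001040001040, 0x40001000040000041041000040040000000002000041041000, 0x1000040001000001041000001000040000001002001040001040, 0x41041041000041000001000002000040001000, 0x40001000041041040000000000000000040042001040001040, 0x1000040001000041040040000040042040040002040040001001, 0x1000040001001001001040000000000040000042040040001001, 0x1000040001000000000041041001040000000002000041041000, 0x40001000041001040000040000040000040002040040001001, 0x81042041081041001040041001000040001000042041081042041, 0x1000040001000041040000001000000001001002000041041000, 0x1000040001001001000040040001000001000002040040001001,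 0x1040040040041000040040040002000040001000, 0x1041041040040040000001002000040001000, 0x41001040041002000041041000041040000001002000041041000, 0x1040041001040000000041000001001001000042040040001001, 0x1040041001040001040000000001000001040042001040001040, 0x1040041001040000040040000000040040040042000041041000, 0x1040041001040000040040000001040000040042040040001001, 0x40041001040040000041000000001001000040042040040001001, 0x41001040041000000000040040001040040040002000041041000, 0x40041001040040001041040002041000000040042000041041000, 0x40001000040000041041000040040040040042000041041000, 0x1040041001040080001041040001041000000042000041041000, 0x40001000040000040041040001041000040042040040001001, 0x1040041001040001040000000000040000041042001040001040, 0x40041001040040000040000040000041000041002001040001040, 0x1000040001000001041040000001001001001042000041041000, 0x41001040041000000000040040001000040040042000041041000, 0x40001000040000040041040041040001040002001040001040, 0x1000040001000001040040040001040040040042040040001001, 0x1040041001040001000001000001040001040002001040001040,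 0x1000040001000001041040000001040000041042001040001040, 0x1040041001040000040040000040040001001002040040001001, 0x1040041001040000040040000040040040000042000041041000, 0x40001000040000040001041000040000040000002001040001040, 0x40001000040000000001001041001001000000002000041041000, 0x40001000041041040000000000000000040042000041041000, 0x40001000041000001001001000001000000042040040001001, 0x40001000040000040041000001000001000001002040040001001, 0x40001000040001041001000000001081001000042040040001001, 0x40001000040001040000000041000000040040002000041041000, 0x40001000041000000001041000001001000002001040001040, 0x1040000041041001001001000002000040001000, 0x40001000040000040000001041000001000001002001040001040, 0x40001000040000000001041040041000000000002000041041000, 0x40001000040001001001000040000001000001002040040001001, 0x1000001041041000001040000042000040001000, 0x40001000040001040000000041000000040040002001040001040, 0x42041081042041040041001040040001000040002041081042041, 0x41041001001040000001001002000040001000, 0x1000040001000041000001001001000001000002040040001001,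 0x40001000040001041001000000001000000040002001040001040, 0x1041041000001000000040040042000040001000, 0x40001000041040000001001000001001000002000041041000, 0x1000040001001000000040041000040040000002000041041000, 0x1001001041040001001000000042000040001000, 0x1000040001000001001001001000040000001002040040001001, 0x40001000040000041041000000040000000001002000041041000, 0x1000040001001041000000001000000001001002000041041000, 0x40041041001040040000001002000040001000, 0x1041000001041000040040040002000040001000, 0x40001000041001001001000040000001000002040040001001, 0x40001000040001040000000041000001040000002000041041000, 0x1000040001001041000000001000000041000002000041041000, 0x40001000040000041041000000040000000001002001040001040, 0x1000040001001040000040001000000040000042001040001040, 0x40001000040001041000000040000000040040002000041041000, 0x41081042041080041001040041001000040001002041081042041, 0x40001000040000040001001001040000040000002040040001001, 0x1041001001001000001001001002000040001000, 0x1041041040000040000040000042000040001000, 0x40001000041000000001041000041000000002000041041000,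 0x40040041041040040040000002000040001000, 0x1000040001000000001041001040001001081002040040001001, 0x1041040000041000001001001002000040001000, 0x40001000040000040000001041040040001001082040040001001, 0x1001001001041001001001000002000040001000, 0x40001000041040040000001040000001000002001040001040, 0x1000040001001001000000041000000040000042001040001040, 0x1041040000041000040000041002000040001000, 0x40001000041041000001000040000001000002001040001040, 0x1041000001041001000001040002000040001000, 0x40001000040001000001000041000001000001002001040001040, 0x1041041000001000001000001042000040001000, 0x40001000040001040000040040040000040000002040040001001, 0x1000040001001041000000001000000001001002001040001040, 0x40001000041040040000001042040040001002040040001001, 0x1041041040000040000001001002000040001000, 0x1040000041041040000041000002000040001000, 0x1000001041041040040040000002000040001000, 0x40041001040040000001001000001001000040042040040001001, 0x40001000040000041041000000001001000041042000041041000, 0x41001040041000001001000000001000040040042040040001001,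 0x40041001040040000000001040001041000040002001040001040, 0x1040041001040000000001001000041001001002000041041000, 0x40001000040000041041000041001001000042000041041000, 0x1000040001000000000041041001040040040042000041041000, 0x41001040041000000001040000001001000001042001040001040, 0x40041001040041000000000040000001040040042000041041000, 0x40041001040040000041000000040040000041002001040001040, 0x40041001040040040000001000041000001040002001040001040, 0x40001000041001001001000001001001040042040040001001, 0x41001040041000000000040040001001040000042040040001001, 0x40001000040000040000001041001001041040002000041041000, 0x40041001040040000001001000041001001000002000041041000, 0x41001040041000041000000000001000001041002001040001040, 0x40041001040040040040000000040000040040042040040001001, 0x41001040041000000001000001000001040001042001040001040, 0x40041001040041040000000000000001040040042001040001040, 0x40001000040001000001040040001001040040042040040001001, 0x40001000040000040041040000041000040040042040040001001, 0x1040041001040000000001001001001001000042040040001001,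 0x41001040041000000000000041001001001001002040040001001, 0x40041001040040040040000000040001001001002040040001001, 0x40041001040040002000041041040041040000002000041041000, 0x40041001040041000000000040001001001040002040040001001, 0x40001000041000040000041000041040040042001040001040, 0x40001000040000001041000040001001000041042001040001040, 0x40041001040041000000000040001001000040042000041041000, 0x40001000040000041041000040041000001042001040001040, 0x40041001040040000000001040040040040040002040040001001, 0x40001000041001000001040001001001040042040040001001, 0x40041001040040000041000000040001000001042001040001040, 0x40001000040000000001041040041001040000042001040001040, 0x40001000040000000001041040041001001001002000041041000, 0x40041001040040000001001000040001001001002000041041000, 0x40001000040000000001001041001041000041002001040001040, 0x40001000041040040000001000001001041042000041041000, 0x40001000040000040040040040040040040041002040040001001, 0x1040041001041000000040000040000041000042001040001040, 0x41001040041000001001000000001001001001002000041041000,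 0x1000040001000000001041001001041040000042000041041000, 0x40041001040040040040000000040040040040002000041041000, 0x41001040041000041000000000001000040040042040040001001, 0x1040041001041001000000000000040040040042040040001001, 0x41001040041000000001040000041000040000042001040001040, 0x41001040041000040000000001000040040041002040040001001, 0x1040041001040041041000080040000001001042000041041000, 0x1000040001001041000040000001000041040042001040001040, 0x1040041001040000040000001000041000001042001040001040, 0x1040041001040000000041000041040001000002001040001040, 0x1040041001041001000000000001001001000042000041041000, 0x1000040001000041040000001001040001041002001040001040, 0x1040041001040000000001001040040041000002040040001001, 0x40001000041000000001041001041001040002001040001040, 0x41001040041000001000000040001040000041002001040001040, 0x1040041001040000000041000040040040000042001040001040, 0x1040041001041001000000000001000001040042000041041000, 0x40001000040041040001000040040001041002001040001040, 0x40001000040001041001000041040000040042000041041000,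 0x40041001040040000001001000040041000001002040040001001, 0x1000040001000001001001001001001001001042040040001001, 0x1000040001000001041040000040040040001042000041041000, 0x40001000041001041000000000041000041042001040001040, 0x1040041001041000000000001000040040040042040040001001, 0x40001000040000000001041040041040040040002000041041000, 0x1000040001000001001041000041040001001002040040001001, 0x40001000041040040040000040040040040042040040001001, 0x41001040041000000000000041001040040040002001040001040, 0x40001000041041040000000001001001040042000041041000, 0x41001040041000040000000001001001001001002040040001001, 0x1040041001041000000000001000001041000042001040001040, 0x41001040041000040000040000041000041000002001040001040, 0x1000040001000040040040001040040041001002040040001001, 0x41001040041000001001000000001001000001042000041041000, 0x1000040001000041040000001000040040041042040040001001, 0x40001000040000040000041040041040040040002001040001040, 0x1000040001000001001041000041000041000042001040001040, 0x40001000040000040041040000040001040001042001040001040,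 0x41001040041001041040002000000000040041042000041041000, 0x41001040041000041000000000040000041001002001040001040, 0x40001000040001001001000040001001040040042040040001001, 0x41001040041000000001040000040040040001002040040001001, 0x40001000040000041041000000040040040041002000041041000, 0x40001000040000041041000000041000001041002001040001040, 0x40041001040041040000000000040000041040002001040001040, 0x1000040001001041000000001001000041040042000041041000, 0x40041001040040000000001040041001001000002001040001040, 0x1000040001000001000001041001041001001002001040001040, 0x1000040001000000000041041001041001001002000041041000, 0x1040041001040001040000000040040001001002040040001001, 0x1040041001041040002000041000040041040002000041041000, 0x41001040041000000000000041000041040001002001040001040, 0x40001000040000000041040040041041000001002000041041000, 0x1000040001001000000040041001001041000042040040001001, 0x1040041001041000000000001000041001001002001040001040, 0x40001000040040040001001040041001001002040040001001, 0x40001000040000041001001040041001001002040040001001,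 0x40001000041000000041040040041041000002000041041000, 0x1000040001000000000041041041040041000002001040001040, 0x1040041001041001000000000000001001001042040040001001, 0x41001040041000000000040040040040040001002040040001001, 0x1000040001000041040040000041000001001042000041041000, 0x40041001040040040040000000040040000041002000041041000, 0x40001000041000000001041000041040040042000041041000, 0x1040041001040000000001001040040001001002000041041000, 0x1000040001001001000040040001040040040042040040001001, 0x40001000041000040040040040040040040042040040001001, 0x1000040001001000000040041000041040001042001040001040, 0x40001000040001041000000040001001001041002040040001001, 0x41001040041000001001000000041000001001002040040001001, 0x40001000040000040040000041040040040041002040040001001, 0x40001000041001041000000040001001001042040040001001, 0x1000040001000000041040001040040040001042001040001040, 0x1000040001000040000041001040040041001002040040001001, 0x40001000041000001041000041001001000042001040001040, 0x40041001040041000000000040040040040040002040040001001, 0x1000040001001001000000041000040041041002000041041000,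 0x40001000041041040000000040000041040042001040001040, 0x40001000041041040000000040040001041002000041041000, 0x40001000040001040000000041001001040040042000041041000, 0x41001040041000040000000001040040040001002000041041000, 0x1000040001001041000000001000001041001042001040001040, 0x40041001040041040000000000040001001001002040040001001, 0x41001040041000040000000001040000041001002000041041000, 0x41001040041001000080001041001001041000002000041041000, 0x40001000040000040001001001041001001001002040040001001, 0x40001000040001040000000041000041040041002001040001040, 0x40001000040000041001001000041001001001002040040001001, 0x40041001040041041000080001000001001041002000041041000, 0x40041001040041000001000000040001040000042001040001040, 0x40001000040000000001001041040041040001002040040001001, 0x1000040001001001001000001001001001001042040040001001, 0x40001000041040000001001040001041000042001040001040, 0x40001000040001041000000040041000041040002001040001040, 0x40001000041040000001001040040041040002040040001001, 0x40001000040001040001000001040001041001002001040001040,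 0x40001000040001041001000000040000040041042000041041000, 0x40001000041000000001041040041001001002000041041000, 0x40001000040001040000000041040001041001002000041041000, 0x1000040001001041000000001040040041001002000041041000, 0x41041041041040000000000000041041041041042082082082082]

/-- adjacency, `2` on the diagonal -/
def RM (i j : ℕ) : ℕ := cond (Nat.beq i j) 2 (bitM 275 adjM i j)

/-- the word -/
def w9 : List ℕ := [e_b, e_a, e_b, e_c, e_b, e_a, e_w, e_g, e_x, e_g, e_b, e_c, e_b, e_a, e_b]

theorem w9_mem : ∀ P ∈ w9, InG K0 P := fun P hP => inAll P (by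
  simp only [w9, List.mem_cons, List.not_mem_nil, or_false] at hP
  rcases hP with rfl | rfl | rfl | rfl | rfl | rfl | rfl | rfl | rfl | rfl | rfl | rfl | rfl | rfl | rfl <;>
  simp [e7])

theorem inT9 : InG K0 t9 := InG.word (L := w9) w9_mem (by decide +kernel)
theorem inTz : InG K0 tz := InG.word (L := [e_a, e_x]) (fun P hP => inAll P (by
  simp only [List.mem_cons, List.not_mem_nil, or_false] at hP
  rcases hP with rfl | rfl <;> simp [e7])) (by decide +kernel)

variable {L : Type u} [Group L] {θ : L →* Perm (Fin 275)}

theorem rep_sys (R : Rep L θ) {t : ℕ} {l : L} (h : ∀ i : Fin 275, ((θ l i : Fin 275) : ℕ) = lk t i) :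
    Sys θ RM l (lk t) where
  inj := R.inj
  rel g i j := by
    have h1 := (R.sys h).rel g i j
    unfold RM
    have h2 : Nat.beq (θ g i : Fin 275) (θ g j : Fin 275) = Nat.beq i j := by
      rw [Bool.eq_iff_iff, Nat.beq_eq, Nat.beq_eq, ← Fin.ext_iff, ← Fin.ext_iff, (θ g).injective.eq_iff]
    rw [h2, h1]
  tab := h

/-- a commuting element outside the cyclic group -/
theorem pow_succ_dvd_card {G : Type*} [Group G] [Finite G] {p n : ℕ} (hp : p.Prime) {y z : G} (hy : orderOf y = p ^ n)
    (hc : z * y = y * z) (hz : z ^ p = 1) (hz' : z ∉ zpowers y) :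
    p ^ (n + 1) ∣ Nat.card (centralizer ({y} : Set G)) := by
  let y' : centralizer ({y} : Set G) := ⟨y, mem_centralizer_singleton_iff.2 rfl⟩
  let z' : centralizer ({y} : Set G) := ⟨z, mem_centralizer_singleton_iff.2 hc⟩
  have hcen : ∀ c : centralizer ({y} : Set G), c * y' = y' * c :=
    fun c => Subtype.ext (mem_centralizer_singleton_iff.1 c.2)
  have hN : (zpowers y').Normal := by
    refine ⟨fun n hn g => ?_⟩
    obtain ⟨k, rfl⟩ := mem_zpowers_iff.1 hn
    have h : g * y' ^ k = y' ^ k * g := ((Commute.zpow_right (hcen g) k) : Commute g (y' ^ k))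
    rw [h, mul_inv_cancel_right]
    exact ⟨k, rfl⟩
  have h4 : Nat.card (centralizer ({y} : Set G)) =
      Nat.card (centralizer ({y} : Set G) ⧸ zpowers y') * Nat.card (zpowers y') :=
    Subgroup.card_eq_card_quotient_mul_card_subgroup _
  have hy'o : orderOf y' = p ^ n := by rw [Subgroup.orderOf_mk, hy]
  rw [Nat.card_zpowers, hy'o] at h4
  have h6 : orderOf (QuotientGroup.mk' (zpowers y') z') = p := by
    have := Fact.mk hp
    refine orderOf_eq_prime ?_ ?_
    · rw [← map_pow]
      have : z' ^ p = 1 := Subtype.ext hz
      rw [this, map_one]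
    · intro h
      obtain ⟨k, hk⟩ := mem_zpowers_iff.1 ((QuotientGroup.eq_one_iff z').1 h)
      exact hz' ⟨k, congrArg Subtype.val hk⟩
  have h7 := orderOf_dvd_natCard (QuotientGroup.mk' (zpowers y') z')
  rw [h6] at h7
  rw [h4, pow_succ']
  exact Nat.mul_dvd_mul h7 dvd_rfl

private theorem _root_.Cfsg.Agent.KOa2e33af.e0.{ku, kv} {α : Type kv} {M : List α → Sort ku} (φ : ∀ l, M l) {z : M List.nil} {s : ∀ a l, M l → M (List.cons a l)} (h0 : φ List.nil = z) (hs : ∀ a l, φ (List.cons a l) = s a l (φ l)) (l : List α) : φ l = @List.rec α M z s l := List.rec h0 (fun a l ih => (hs a l).trans (congrArg (s a l) ih)) l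
private noncomputable def _root_.Cfsg.Agent.KOa2e33af.k1.{ku0} : type_of% @List.append.{ku0} := @(fun x0 x1 x2 => @List.rec.{(ku0+1), ku0} @x0 @(fun x3 => (@List.{ku0} @x0) → @List.{ku0} @x0) @(fun x3 => @x3) @(fun x3 x4 x5 x6 => @x3 :: (@x5 @x6)) @x1 @x2)
private theorem _root_.Cfsg.Agent.KOa2e33af.e1.{ku0} : @List.append.{ku0} = @_root_.Cfsg.Agent.KOa2e33af.k1.{ku0} := by delta _root_.Cfsg.Agent.KOa2e33af.k1; funext a0 a1 a2; refine (congrFun (_root_.Cfsg.Agent.KOa2e33af.e0 (fun a1 a2 => @List.append.{ku0} a0 a1 a2) ?_ (fun c0 c1 => ?_) a1) a2 :) <;> (rfl')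
private noncomputable def _root_.Cfsg.Agent.KOa2e33af.k2.{ku0} : type_of% @List.length.{ku0} := @(fun x0 x1 => @List.rec.{1, ku0} @x0 @(fun x2 => ℕ) (nat_lit 0) @(fun x2 x3 x4 => @Nat.add @x4 (nat_lit 1)) @x1)
private theorem _root_.Cfsg.Agent.KOa2e33af.e2.{ku0} : @List.length.{ku0} = @_root_.Cfsg.Agent.KOa2e33af.k2.{ku0} := by delta _root_.Cfsg.Agent.KOa2e33af.k2; funext a0 a1; refine (_root_.Cfsg.Agent.KOa2e33af.e0 (fun a1 => @List.length.{ku0} a0 a1) ?_ (fun c0 c1 => ?_) a1 :) <;> (rfl')
private noncomputable def _root_.Cfsg.Agent.KOa2e33af.k3.{ku0} : type_of% @List.filter.{ku0} := @(fun x0 x1 x2 => @List.rec.{(ku0+1), ku0} @x0 @(fun x3 => @List.{ku0} @x0) [] @(fun x3 x4 x5 => @Bool.rec.{(ku0+1)} @(fun x6 => @List.{ku0} @x0) @x5 (@x3 :: @x5) (@x1 @x3)) @x2)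
private theorem _root_.Cfsg.Agent.KOa2e33af.e3.{ku0} : @List.filter.{ku0} = @_root_.Cfsg.Agent.KOa2e33af.k3.{ku0} := by delta _root_.Cfsg.Agent.KOa2e33af.k3; funext a0 a1 a2; refine (_root_.Cfsg.Agent.KOa2e33af.e0 (fun a2 => @List.filter.{ku0} a0 a1 a2) ?_ (fun c0 c1 => ?_) a2 :) <;> (rfl')
private noncomputable def _root_.Cfsg.Agent.KOa2e33af.k4.{ku0, ku1} : type_of% @List.foldl.{ku0, ku1} := @(fun x0 x1 x2 x3 x4 => @List.rec.{(ku0+1), ku1} @x1 @(fun x5 => @x0 → @x0) @(fun x5 => @x5) @(fun x5 x6 x7 x8 => @x7 (@x2 @x8 @x5)) @x4 @x3)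
private theorem _root_.Cfsg.Agent.KOa2e33af.e4.{ku0, ku1} : @List.foldl.{ku0, ku1} = @_root_.Cfsg.Agent.KOa2e33af.k4.{ku0, ku1} := by delta _root_.Cfsg.Agent.KOa2e33af.k4; funext a0 a1 a2 a3 a4; refine (congrFun (_root_.Cfsg.Agent.KOa2e33af.e0 (fun a4 a3 => @List.foldl.{ku0, ku1} a0 a1 a2 a3 a4) ?_ (fun c0 c1 => ?_) a4) a3 :) <;> (rfl')
private theorem _root_.Cfsg.Agent.KOa2e33af.e5.{ku} {M : Nat → Sort ku} (φ : ∀ n, M n) {z : M Nat.zero} {s : ∀ n, M n → M (Nat.succ n)} (h0 : φ Nat.zero = z) (hs : ∀ n, φ (Nat.succ n) = s n (φ n)) (n : Nat) : φ n = @Nat.rec M z s n := Nat.rec h0 (fun n ih => (hs n).trans (congrArg (s n) ih)) n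
private noncomputable def _root_.Cfsg.Agent.KOa2e33af.k6 : (by first | exact type_of% @Cfsg.Agent.H904.CentChk.cyc | exact Unit : Sort _) := by first | (refine @Subtype.val _ (fun g => @Cfsg.Agent.H904.CentChk.cyc = @g) (@Subtype.mk _ _ (@(fun x0 x1 x2 => @Nat.rec.{1} @(fun x3 => ℕ → @List.{0} ℕ) @(fun x3 => []) @(fun x3 x4 x5 => @x5 :: (@x4 (@x0 @x5))) @x1 @x2)) ?_); funext a0 a1 a2; refine (congrFun (_root_.Cfsg.Agent.KOa2e33af.e5 (fun a1 a2 => @Cfsg.Agent.H904.CentChk.cyc a0 a1 a2) ?_ (fun c0 => ?_) a1) a2 :) <;> (rfl')) | exact @Cfsg.Agent.H904.CentChk.cyc | exact ()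
private theorem _root_.Cfsg.Agent.KOa2e33af.e6 : (by first | exact @Cfsg.Agent.H904.CentChk.cyc = @_root_.Cfsg.Agent.KOa2e33af.k6 | exact True : Prop) := by first | (delta _root_.Cfsg.Agent.KOa2e33af.k6; exact @Subtype.property _ (fun g => @Cfsg.Agent.H904.CentChk.cyc = @g) _) | rfl | trivial
private noncomputable def _root_.Cfsg.Agent.KOa2e33af.k7 : (by first | exact type_of% @Cfsg.Agent.H904.CentChk.code | exact Unit : Sort _) := by first | (refine @Subtype.val _ (fun g => @Cfsg.Agent.H904.CentChk.code = @g) (@Subtype.mk _ _ (@(fun x0 x1 x2 x3 x4 => @Cfsg.Agent.KOa2e33af.k4.{0, 0} _ _ @(fun x5 x6 => @Nat.add (@Nat.mul @x5 (nat_lit 64)) (@x0 @x4 @x6)) (nat_lit 0) (@Cfsg.Agent.KOa2e33af.k1.{0} _ @x2 (@Cfsg.Agent.KOa2e33af.k6 @x1 @x3 @x4)))) ?_); rewrite [← Cfsg.Agent.KOa2e33af.e6, ← Cfsg.Agent.KOa2e33af.e1.{0}, ← Cfsg.Agent.KOa2e33af.e4.{0, 0}]; (try delta Cfsg.Agent.H904.CentChk.code); (try generalize @Cfsg.Agent.H904.CentChk.cyc = g0); rfl') | exact @Cfsg.Agent.H904.CentChk.code | exact ()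
private theorem _root_.Cfsg.Agent.KOa2e33af.e7 : (by first | exact @Cfsg.Agent.H904.CentChk.code = @_root_.Cfsg.Agent.KOa2e33af.k7 | exact True : Prop) := by first | (delta _root_.Cfsg.Agent.KOa2e33af.k7; exact @Subtype.property _ (fun g => @Cfsg.Agent.H904.CentChk.code = @g) _) | rfl | trivial
private noncomputable def _root_.Cfsg.Agent.KOa2e33af.k8 : type_of% @List.range.loop := @(fun x0 x1 => @Nat.rec.{1} @(fun x2 => (@List.{0} ℕ) → @List.{0} ℕ) @(fun x2 => @x2) @(fun x2 x3 x4 => @x3 (@x2 :: @x4)) @x0 @x1)
private theorem _root_.Cfsg.Agent.KOa2e33af.e8 : @List.range.loop = @_root_.Cfsg.Agent.KOa2e33af.k8 := by delta _root_.Cfsg.Agent.KOa2e33af.k8; funext a0 a1; refine (congrFun (_root_.Cfsg.Agent.KOa2e33af.e5 (fun a0 a1 => @List.range.loop a0 a1) ?_ (fun c0 => ?_) a0) a1 :) <;> (rfl')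
private noncomputable def _root_.Cfsg.Agent.KOa2e33af.k10.{ku0} : type_of% @List.hasDecEq.{ku0} := @(fun x0 x1 x2 x3 => @List.rec.{(ku0+1), ku0} @x0 @(fun x4 => (x5 : @List.{ku0} @x0) → @Decidable (@Eq.{(ku0+1)} _ @x4 @x5)) @(fun x4 => @List.rec.{1, ku0} @x0 @(fun x5 => @Decidable (@Eq.{(ku0+1)} _ [] @x5)) (@Decidable.isTrue _ (@List.hasDecEq._proof_1.{ku0} _)) @(fun x5 x6 x7 => @Decidable.isFalse _ (@List.hasDecEq._proof_3.{ku0} _ @x5 @x6)) @x4) @(fun x4 x5 x6 x7 => @List.rec.{1, ku0} @x0 @(fun x8 => @Decidable (@Eq.{(ku0+1)} _ (@x4 :: @x5) @x8)) (@Decidable.isFalse _ (@List.hasDecEq._proof_2.{ku0} _ @x4 @x5)) @(fun x8 x9 x10 => @Decidable.rec.{1} _ @(fun x11 => @Decidable (@Eq.{(ku0+1)} _ (@x4 :: @x5) (@x8 :: @x9))) @(fun x11 => @Decidable.isFalse _ (@List.hasDecEq._proof_6.{ku0} _ @x4 @x5 @x8 @x9 @x11)) @(fun x11 => @Decidable.rec.{1} _ @(fun x12 => @Decidable (@Eq.{(ku0+1)} _ (@x4 :: @x5) (@x8 :: @x9))) @(fun x12 => @Decidable.isFalse _ (@List.hasDecEq._proof_5.{ku0} _ @x4 @x5 @x8 @x9 @x12)) @(fun x12 => @Decidable.isTrue _ (@List.hasDecEq._proof_4.{ku0}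 _ @x4 @x5 @x8 @x9 @x11 @x12)) (@x6 @x9)) (@x1 @x4 @x8)) @x7) @x2 @x3)
private theorem _root_.Cfsg.Agent.KOa2e33af.e10.{ku0} : @List.hasDecEq.{ku0} = @_root_.Cfsg.Agent.KOa2e33af.k10.{ku0} := by delta _root_.Cfsg.Agent.KOa2e33af.k10; funext a0 a1 a2 a3; refine (congrFun (_root_.Cfsg.Agent.KOa2e33af.e0 (fun a2 a3 => @List.hasDecEq.{ku0} a0 a1 a2 a3) ?_ (fun c0 c1 => ?_) a2) a3 :) <;> [(funext b0; (cases b0 with | @nil  => (rfl') | @cons b0_0 b0_1 => (rfl'))); (funext b0; (cases b0 with | @nil  => (rfl') | @cons b0_0 b0_1 => (rfl')))]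
private noncomputable def _root_.Cfsg.Agent.KOa2e33af.k11.{ku0} : type_of% @instDecidableEqList.{ku0} := @(fun x0 x1 x2 x3 => @List.rec.{1, ku0} @x0 @(fun x4 => @Decidable (@Eq.{(ku0+1)} _ @x4 @x3)) (@List.rec.{1, ku0} @x0 @(fun x4 => @Decidable (@Eq.{(ku0+1)} _ [] @x4)) (@Decidable.isTrue _ (@List.hasDecEq._proof_1.{ku0} _)) @(fun x4 x5 x6 => @Decidable.isFalse _ (@List.hasDecEq._proof_3.{ku0} _ @x4 @x5)) @x3) @(fun x4 x5 x6 => @List.rec.{1, ku0} @x0 @(fun x7 => @Decidable (@Eq.{(ku0+1)} _ (@x4 :: @x5) @x7)) (@Decidable.isFalse _ (@List.hasDecEq._proof_2.{ku0} _ @x4 @x5)) @(fun x7 x8 x9 => @Decidable.rec.{1} _ @(fun x10 => @Decidable (@Eq.{(ku0+1)} _ (@x4 :: @x5) (@x7 :: @x8))) @(fun x10 => @Decidable.isFalse _ (@List.hasDecEq._proof_6.{ku0} _ @x4 @x5 @x7 @x8 @x10)) @(fun x10 => @Decidable.rec.{1} _ @(fun x11 => @Decidable (@Eq.{(ku0+1)} _ (@x4 :: @x5) (@x7 :: @x8))) @(fun x11 => @Decidable.isFalse _ (@List.hasDecEq._proof_5.{ku0} _ @x4 @x5 @x7 @x8 @x11)) @(fun x11 => @Decidable.isTrue _ (@List.hasDecEq._proof_4.{ku0} _ @x4 @x5 @x7 @x8 @x10 @x11))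 (@Cfsg.Agent.KOa2e33af.k10.{ku0} _ @x1 @x5 @x8)) (@x1 @x4 @x7)) @x3) @x2)
private theorem _root_.Cfsg.Agent.KOa2e33af.e11.{ku0} : @instDecidableEqList.{ku0} = @_root_.Cfsg.Agent.KOa2e33af.k11.{ku0} := by delta _root_.Cfsg.Agent.KOa2e33af.k11; rewrite [← Cfsg.Agent.KOa2e33af.e10.{ku0}]; rfl'
private noncomputable def _root_.Cfsg.Agent.KOa2e33af.k12 : type_of% @Nat.decEq := @(fun x0 x1 => @Bool.rec.{1} @(fun x2 => (@Eq.{1} _ (@Nat.beq @x0 @x1) @x2) → @Decidable (@Eq.{1} _ @x0 @x1)) @(fun x2 => @Decidable.isFalse _ (@Nat.ne_of_beq_eq_false _ _ @x2)) @(fun x2 => @Decidable.isTrue _ (@Nat.eq_of_beq_eq_true _ _ @x2)) (@Nat.beq @x0 @x1) (@Eq.refl.{1} _ (@Nat.beq @x0 @x1)))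
private theorem _root_.Cfsg.Agent.KOa2e33af.e12 : @Nat.decEq = @_root_.Cfsg.Agent.KOa2e33af.k12 := by delta _root_.Cfsg.Agent.KOa2e33af.k12; rfl'
private noncomputable def _root_.Cfsg.Agent.KOa2e33af.k13 : (by first | exact type_of% @Cfsg.Agent.H846.PB.chainC | exact Unit : Sort _) := by first | (refine @Subtype.val _ (fun g => @Cfsg.Agent.H846.PB.chainC = @g) (@Subtype.mk _ _ (@(fun x0 x1 x2 x3 x4 x5 => @List.rec.{1, 0} ((@List.{0} ℕ) × ℕ) @(fun x6 => (@List.{0} ℕ) → @Bool) @(fun x6 => @Bool.true) @(fun x6 x7 x8 x9 => @Prod.rec.{1, 0, 0} (@List.{0} ℕ) ℕ @(fun x10 => @Bool) @(fun x10 x11 => @Bool.rec.{1} @(fun x12 => @Bool) @Bool.false (@Bool.rec.{1} @(fun x12 => @Bool) @Bool.false (@Bool.rec.{1} @(fun x12 => @Bool) @Bool.false (@x8 (@Cfsg.Agent.KOa2e33af.k1.{0} _ @x9 @x10)) (@Nat.ble (@Cfsg.Agent.KOa2e33af.k2.{0} _ (@Cfsg.Agent.KOa2e33af.k3.{0} _ @(fun x12 => @Nat.beq (@Cfsg.Agent.KOa2e33af.k7 @x1 @x2 @x9 @x3 @x12) (@Cfsg.Agent.KOa2e33af.k7 @x1 @x2 @x9 @x3 (@List.rec.{1, 0} ℕ @(fun x13 => ℕ) (nat_lit 0) @(fun x13 x14 x15 => @x13) @x10))) (@Cfsg.Agent.KOa2e33af.k8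 @x0 []))) @x11)) (@Decidable.rec.{1} _ @(fun x12 => @Bool) @(fun x12 => @Bool.false) @(fun x12 => @Bool.true) (@Cfsg.Agent.KOa2e33af.k11.{0} _ @Cfsg.Agent.KOa2e33af.k12 @x10 (@Cfsg.Agent.KOa2e33af.k6 @x2 @x3 (@List.rec.{1, 0} ℕ @(fun x12 => ℕ) (nat_lit 0) @(fun x12 x13 x14 => @x12) @x10))))) (@Nat.ble (@Nat.succ (@List.rec.{1, 0} ℕ @(fun x12 => ℕ) (nat_lit 0) @(fun x12 x13 x14 => @x12) @x10)) @x0)) @x6) @x5 @x4)) ?_); rewrite [← Cfsg.Agent.KOa2e33af.e6, ← Cfsg.Agent.KOa2e33af.e12, ← Cfsg.Agent.KOa2e33af.e11.{0}, ← Cfsg.Agent.KOa2e33af.e8, ← Cfsg.Agent.KOa2e33af.e7, ← Cfsg.Agent.KOa2e33af.e3.{0}, ← Cfsg.Agent.KOa2e33af.e2.{0}, ← Cfsg.Agent.KOa2e33af.e1.{0}]; funext a0 a1 a2 a3 a4 a5; refine (congrFun (_root_.Cfsg.Agent.KOa2e33af.e0 (fun a5 a4 => @Cfsg.Agent.H846.PB.chainC a0 a1 a2 a3 a4 a5) ?_ (fun c0 c1 => ?_) a5) a4 :) <;> ((try delta Cfsg.Agent.H846.PB.chainC Cfsg.Agent.H846.PB.chainC._f); (try generalize @Cfsg.Agent.H904.CentChk.code = g0); (try generalize @Cfsg.Agent.H904.CentChk.cyc = g1); rfl')) | exact @Cfsg.Agent.H846.PB.chainC | exact ()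
private theorem _root_.Cfsg.Agent.KOa2e33af.e13 : (by first | exact @Cfsg.Agent.H846.PB.chainC = @_root_.Cfsg.Agent.KOa2e33af.k13 | exact True : Prop) := by first | (delta _root_.Cfsg.Agent.KOa2e33af.k13; exact @Subtype.property _ (fun g => @Cfsg.Agent.H846.PB.chainC = @g) _) | rfl | trivial
private noncomputable def _root_.Cfsg.Agent.KOa2e33af.k14 : (by first | exact type_of% @Cfsg.Agent.H846.PB.RM | exact Unit : Sort _) := by first | (refine @Subtype.val _ (fun g => @Cfsg.Agent.H846.PB.RM = @g) (@Subtype.mk _ _ (@(fun x0 x1 => @Bool.rec.{1} @(fun x2 => ℕ) (@Nat.land (@Nat.shiftRight @Cfsg.Agent.H904.McLCent.adjM (@Nat.add (@Nat.mul (nat_lit 275) @x0) @x1)) (nat_lit 1)) (nat_lit 2) (@Nat.beq @x0 @x1))) ?_); (try delta Cfsg.Agent.H846.PB.RM Cfsg.Agent.SporadicA.PermTab.bitM); (try generalize @Cfsg.Agent.H904.McLCent.adjM = g0); rfl') | exact @Cfsg.Agent.H846.PB.RM | exact ()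
private theorem _root_.Cfsg.Agent.KOa2e33af.e14 : (by first | exact @Cfsg.Agent.H846.PB.RM = @_root_.Cfsg.Agent.KOa2e33af.k14 | exact True : Prop) := by first | (delta _root_.Cfsg.Agent.KOa2e33af.k14; exact @Subtype.property _ (fun g => @Cfsg.Agent.H846.PB.RM = @g) _) | rfl | trivial
private noncomputable def _root_.Cfsg.Agent.KOa2e33af.k15 : (by first | exact type_of% @Cfsg.Agent.SporadicA.PermTab.lk | exact Unit : Sort _) := by first | (refine @Subtype.val _ (fun g => @Cfsg.Agent.SporadicA.PermTab.lk = @g) (@Subtype.mk _ _ (@(fun x0 x1 => @Nat.land (@Nat.shiftRight @x0 (@Nat.mul (nat_lit 11) @x1)) (nat_lit 2047))) ?_); rfl') | exact @Cfsg.Agent.SporadicA.PermTab.lk | exact ()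
private theorem _root_.Cfsg.Agent.KOa2e33af.e15 : (by first | exact @Cfsg.Agent.SporadicA.PermTab.lk = @_root_.Cfsg.Agent.KOa2e33af.k15 | exact True : Prop) := by first | (delta _root_.Cfsg.Agent.KOa2e33af.k15; exact @Subtype.property _ (fun g => @Cfsg.Agent.SporadicA.PermTab.lk = @g) _) | rfl | trivial

theorem c9a : chainC 275 RM (lk t9) 9 [] bs9 = true := by (first | (rewrite [Cfsg.Agent.KOa2e33af.e13, Cfsg.Agent.KOa2e33af.e14, Cfsg.Agent.KOa2e33af.e15]; decide +kernel) | decide +kernel)
theorem c9b : lastC [] bs9 = F9 := by decide +kernel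
theorem c9c : F9.all (fun f => Nat.blt f 275) = true := by decide +kernel
private noncomputable def _root_.Cfsg.Agent.KOa2e33af.k16 : type_of% @Decidable.decide := @(fun x0 x1 => @Decidable.rec.{1} _ @(fun x2 => @Bool) @(fun x2 => @Bool.false) @(fun x2 => @Bool.true) @x1)
private theorem _root_.Cfsg.Agent.KOa2e33af.e16 : @Decidable.decide = @_root_.Cfsg.Agent.KOa2e33af.k16 := by delta _root_.Cfsg.Agent.KOa2e33af.k16; rfl'
private noncomputable def _root_.Cfsg.Agent.KOa2e33af.k17 : type_of% @instDecidableEqNat := @Cfsg.Agent.KOa2e33af.k12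
private theorem _root_.Cfsg.Agent.KOa2e33af.e17 : @instDecidableEqNat = @_root_.Cfsg.Agent.KOa2e33af.k17 := by delta _root_.Cfsg.Agent.KOa2e33af.k17; rewrite [← Cfsg.Agent.KOa2e33af.e12]; rfl'
private noncomputable def _root_.Cfsg.Agent.KOa2e33af.k18.{ku0, ku1} : type_of% @List.map.{ku0, ku1} := @(fun x0 x1 x2 x3 => @List.rec.{(ku1+1), ku0} @x0 @(fun x4 => @List.{ku1} @x1) [] @(fun x4 x5 x6 => (@x2 @x4) :: @x6) @x3)
private theorem _root_.Cfsg.Agent.KOa2e33af.e18.{ku0, ku1} : @List.map.{ku0, ku1} = @_root_.Cfsg.Agent.KOa2e33af.k18.{ku0, ku1} := by delta _root_.Cfsg.Agent.KOa2e33af.k18; funext a0 a1 a2 a3; refine (_root_.Cfsg.Agent.KOa2e33af.e0 (fun a3 => @List.map.{ku0, ku1} a0 a1 a2 a3) ?_ (fun c0 c1 => ?_) a3 :) <;> (rfl')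
private noncomputable def _root_.Cfsg.Agent.KOa2e33af.k19 : type_of% @List.range := @(fun x0 => @Cfsg.Agent.KOa2e33af.k8 @x0 [])
private theorem _root_.Cfsg.Agent.KOa2e33af.e19 : @List.range = @_root_.Cfsg.Agent.KOa2e33af.k19 := by delta _root_.Cfsg.Agent.KOa2e33af.k19; rewrite [← Cfsg.Agent.KOa2e33af.e8]; rfl'

theorem c9d : (List.range 275).map (code RM (lk t9) F9 9) = lit9 := by (first | (refine of_decide_eq_true ?_; rewrite [Cfsg.Agent.KOa2e33af.e16, Cfsg.Agent.KOa2e33af.e11.{0}, Cfsg.Agent.KOa2e33af.e17, Cfsg.Agent.KOa2e33af.e18.{0, 0}, Cfsg.Agent.KOa2e33af.e7, Cfsg.Agent.KOa2e33af.e14, Cfsg.Agent.KOa2e33af.e15, Cfsg.Agent.KOa2e33af.e19]; decide +kernel) | decide +kernel)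
private noncomputable def _root_.Cfsg.Agent.KOa2e33af.k20.{ku0} : type_of% @List.all.{ku0} := @(fun x0 x1 x2 => @List.rec.{(ku0+1), ku0} @x0 @(fun x3 => (@x0 → @Bool) → @Bool) @(fun x3 => @Bool.true) @(fun x3 x4 x5 x6 => @Bool.rec.{1} @(fun x7 => @Bool) @Bool.false (@x5 @x6) (@x6 @x3)) @x1 @x2)
private theorem _root_.Cfsg.Agent.KOa2e33af.e20.{ku0} : @List.all.{ku0} = @_root_.Cfsg.Agent.KOa2e33af.k20.{ku0} := by delta _root_.Cfsg.Agent.KOa2e33af.k20; funext a0 a1 a2; refine (congrFun (_root_.Cfsg.Agent.KOa2e33af.e0 (fun a1 a2 => @List.all.{ku0} a0 a1 a2) ?_ (fun c0 c1 => ?_) a1) a2 :) <;> (rfl')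
private noncomputable def _root_.Cfsg.Agent.KOa2e33af.k21 : (by first | exact type_of% @Cfsg.Agent.H846.PB.ndB | exact Unit : Sort _) := by first | (refine @Subtype.val _ (fun g => @Cfsg.Agent.H846.PB.ndB = @g) (@Subtype.mk _ _ (@(fun x0 => @List.rec.{1, 0} ℕ @(fun x1 => @Bool) @Bool.true @(fun x1 x2 x3 => @Bool.rec.{1} @(fun x4 => @Bool) @Bool.false @x3 (@Cfsg.Agent.KOa2e33af.k20.{0} _ @x2 @(fun x4 => @Bool.rec.{1} @(fun x5 => @Bool) @Bool.true @Bool.false (@Nat.beq @x1 @x4)))) @x0)) ?_); rewrite [← Cfsg.Agent.KOa2e33af.e20.{0}]; funext a0; refine (_root_.Cfsg.Agent.KOa2e33af.e0 (fun a0 => @Cfsg.Agent.H846.PB.ndB a0) ?_ (fun c0 c1 => ?_) a0 :) <;> (rfl')) | exact @Cfsg.Agent.H846.PB.ndB | exact ()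
private theorem _root_.Cfsg.Agent.KOa2e33af.e21 : (by first | exact @Cfsg.Agent.H846.PB.ndB = @_root_.Cfsg.Agent.KOa2e33af.k21 | exact True : Prop) := by first | (delta _root_.Cfsg.Agent.KOa2e33af.k21; exact @Subtype.property _ (fun g => @Cfsg.Agent.H846.PB.ndB = @g) _) | rfl | trivial

theorem c9e : ndB lit9 = true := by (first | (rewrite [Cfsg.Agent.KOa2e33af.e21]; decide +kernel) | decide +kernel)
theorem c9f : prodB bs9 = 27 := by decide +kernel
theorem c9g : allB (fun i => Nat.beq ((lk t9)^[3 ^ (1 + 1)] i) i) 275 = true := by decide +kernel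
theorem c9h : ¬ ((lk t9)^[3 ^ 1] 1 = 1) := by decide +kernel
theorem c9i : allB (fun i => Nat.beq ((lk tz)^[3] i) i) 275 = true := by decide +kernel
theorem c9j : allB (fun i => Nat.beq (lk tz (lk t9 i)) (lk t9 (lk tz i))) 275 = true := by decide +kernel
theorem c9k : ∀ k < 3 ^ (1 + 1), ¬ (lk t9)^[k] 1 = lk tz 1 := by decide +kernel

/-- an element of order 9 whose centralizer is a 3-group -/
theorem exists_nine (h : Cfsg.Spor.IsoMcL L) : ∃ y : L, orderOf y = 3 ^ 2 ∧ IsPGroup 3 (centralizer ({y} : Set L)) := by
  classical
  obtain ⟨θ, R⟩ := exists_rep h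
  have : Finite L := Nat.finite_of_card_ne_zero (by rw [card_L h]; norm_num)
  have h3 : Fact (Nat.Prime 3) := ⟨by norm_num⟩
  obtain ⟨y, hy⟩ := R.exists_of inT9
  obtain ⟨z, hz⟩ := R.exists_of inTz
  have hy9 : y ^ 3 ^ (1 + 1) = 1 := by
    apply R.inj
    rw [map_pow, map_one]
    refine Equiv.ext fun i => Fin.ext ?_
    rw [pow_val hy, Perm.one_apply]
    exact Nat.eq_of_beq_eq_true ((allB_iff _ _).1 c9g i i.2)
  have hy3 : ¬ y ^ 3 ^ 1 = 1 := by
    intro h1
    have h2 := congrArg θ h1
    rw [map_pow, map_one] at h2
    have h3 : (((θ y ^ 3 ^ 1) (1 : Fin 275) : Fin 275) : ℕ) = (1 : Fin 275) := by rw [h2, Perm.one_apply]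
    rw [pow_val hy] at h3
    exact c9h h3
  have hyo : orderOf y = 3 ^ (1 + 1) := orderOf_eq_prime_pow hy3 hy9
  have hz3 : z ^ 3 = 1 := by
    apply R.inj
    rw [map_pow, map_one]
    refine Equiv.ext fun i => Fin.ext ?_
    rw [pow_val hz, Perm.one_apply]
    exact Nat.eq_of_beq_eq_true ((allB_iff _ _).1 c9i i i.2)
  have hzy : z * y = y * z := by
    apply R.inj
    rw [map_mul, map_mul]
    refine Equiv.ext fun i => Fin.ext ?_
    rw [Perm.mul_apply, Perm.mul_apply, hz, hy, hy, hz]
    exact Nat.eq_of_beq_eq_true ((allB_iff _ _).1 c9j i i.2)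
  have hz' : z ∉ zpowers y := by
    intro hmem
    rw [mem_zpowers_iff_mem_range_orderOf, hyo, Finset.mem_image] at hmem
    obtain ⟨k, hk, hkz⟩ := hmem
    rw [Finset.mem_range] at hk
    have h1 : (((θ y ^ k) (1 : Fin 275) : Fin 275) : ℕ) = (θ z (1 : Fin 275) : Fin 275) := by
      rw [← map_pow, hkz]
    rw [pow_val hy, hz] at h1
    exact c9k k hk h1
  have h27 := pow_succ_dvd_card (by norm_num) hyo hzy hz3 hz'
  have hle := (card_cent_le_chain (rep_sys R hy) 9 c9a c9b c9c c9d c9e c9f).2
  refine ⟨y, hyo, IsPGroup.of_card (n := 3) ?_⟩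
  obtain ⟨m, hm⟩ := h27
  have hpos : 0 < Nat.card (centralizer ({y} : Set L)) := Nat.card_pos
  rw [hm] at hle hpos ⊢
  have hm1 : m = 1 := by
    have h4 : m ≤ 1 := by
      by_contra hcon
      push Not at hcon
      have : 27 * 2 ≤ 3 ^ (1 + 1 + 1) * m := Nat.mul_le_mul (by norm_num) hcon
      omega
    have h5 : m ≠ 0 := by
      rintro rfl
      simp at hpos
    omega
  rw [hm1]
  norm_num

theorem row_mcl {S : Type u} [Group S] (h : Cfsg.Spor.IsoMcL S) {p : ℕ} (hp : p.Prime) (hd : p ∣ Nat.card S) :
    Cfsg.Agent.H133.PB.Row p S := by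
  have hS : Nat.card S = 898128000 := NotCT.Orders.mcl h
  have : Finite S := Nat.finite_of_card_ne_zero (by rw [hS]; norm_num)
  have hm := Cfsg.Agent.H852.IMSuz.prime_cases' hp [2, 3, 5, 7, 11] (by decide) 7 (hS ▸ hd) (by norm_num)
  simp only [List.mem_cons, List.not_mem_nil, or_false] at hm
  have h11 : Fact (Nat.Prime 11) := ⟨by norm_num⟩
  have h3 : Fact (Nat.Prime 3) := ⟨by norm_num⟩
  -- the model
  obtain ⟨f⟩ := h
  let e1 := f.trans Cfsg.Agent.H713.Spor.McL.mclEquiv
  let e2 := e1.trans (MulEquiv.subgroupCongr McL.hKe)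
  obtain ⟨-, hc1⟩ := Cfsg.Agent.H713.Spor.McL.facts
  have hfin1 := Nat.finite_of_card_ne_zero (show Nat.card _ ≠ 0 by rw [hc1]; norm_num)
  have hc2 := Cfsg.Agent.H852.IMMcL.facts'.2
  have hfin2 := Nat.finite_of_card_ne_zero (show Nat.card _ ≠ 0 by rw [hc2]; norm_num)
  -- the prime 11
  have hkey : ∀ {G : Type} [Group G] [Finite G] (e : S ≃* G) (χ : IrrCharacter G) (_ : ¬ 11 ∣ charDegree (χ : G → ℂ))
      {r : ℕ} (_ : r ∣ charDegree (χ : G → ℂ)), BD r 11 S := by
    intro G _ _ e χ h1 r h2
    have hG : Nat.card G = 898128000 := by rw [← Nat.card_congr e.toEquiv, hS]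
    obtain ⟨x, hx⟩ := exists_prime_orderOf_dvd_card' (G := G) 11 (by rw [hG]; norm_num)
    have h4 := (eleven (L := G) ⟨e.symm.trans f⟩ (zpowers x) (by rw [Nat.card_zpowers, hx])).1
    rw [H904.SylOne.centralizer_zpowers_eq] at h4
    obtain ⟨P, hP⟩ := isPGroup_centralizer_sylow (IsPGroup.of_card (n := 1) (by rw [h4, pow_one])) ⟨1, by rw [hx, pow_one]⟩
    exact BD.of_equiv e (BD.of_sylow P hP χ h1 h2)
  obtain ⟨χ, hχ⟩ := Cfsg.Agent.H713.Spor.McL.exists_252
  obtain ⟨ξ, hξ⟩ := McL.exists_1750
  have h252 : ∀ r : ℕ, r ∣ 252 → BD r 11 S := fun r hr => hkey e1 χ (by rw [hχ]; norm_num) (by rw [hχ]; exact hr)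
  rcases hm with rfl | rfl | rfl | rfl | rfl
  · exact Row.intro (q := 11) (by norm_num) (by norm_num) (by rw [hS]; norm_num) (h252 2 (by norm_num))
  · exact Row.intro (q := 11) (by norm_num) (by norm_num) (by rw [hS]; norm_num) (h252 3 (by norm_num))
  · exact Row.intro (q := 11) (by norm_num) (by norm_num) (by rw [hS]; norm_num)
      (hkey e2 ξ (by rw [hξ]; norm_num) (by rw [hξ]; norm_num))
  · exact Row.intro (q := 11) (by norm_num) (by norm_num) (by rw [hS]; norm_num) (h252 7 (by norm_num))
  · -- `p = 11`
    obtain ⟨μ, -, hμ⟩ := Cfsg.Agent.H713.Spor.McL.exists_22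
    have hd22 := Cfsg.Agent.H713.Spor.HS.degree_of_lchi hμ
    have h22 : charDegree (μ : ↥(Cfsg.Agent.SporadicRecognition.HSRank.K (-Spor.leechV) Spor.leechU) → ℂ) = 22 := by
      omega
    refine Row.intro (q := 3) (by norm_num) (by norm_num) (by rw [hS]; norm_num) (BD.of_equiv e1 ?_)
    obtain ⟨y, hy, hC⟩ := exists_nine (L := ↥(Cfsg.Agent.SporadicRecognition.HSRank.K (-Spor.leechV) Spor.leechU))
      ⟨e1.symm.trans f⟩
    obtain ⟨P, hP⟩ := isPGroup_centralizer_sylow hC ⟨2, hy⟩
    exact BD.of_sylow P hP μ (by rw [h22]; norm_num) (by rw [h22]; norm_num)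

end Cfsg.Agent.H846.PB

private theorem dce_3093532bbfae : _root_.True := by
  try have : _root_.True := by simp only [_root_.Cfsg.Agent.H846.PB.w9.eq_1]
  exact _root_.True.intro
end

-- part: H877/PBJ4
section
set_option linter.all false
open scoped Cfsg.Agent.FastGrp

/-!
# S4826: the row of `J4` (helper877)
-/

set_option autoImplicit false

open Cfsg

namespace Cfsg.Agent.H877.PBJ4

open Subgroup Cfsg.Agent.H709.PB Cfsg.Agent.H133.PB Cfsg.Agent.H33
open Cfsg.Agent.H723.Spor.JFour

universe u v

section

variable {G : Type u} [Group G] [Finite G]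

/-- one 2-block in the centralizer of a 2-central involution -/
theorem one_block_z {z : G} (h : IsOfJankoFourTypeAt z) {d : ℕ} : DB 2 d ↥(centralizer ({z} : Set G)) := by
  have : Fact (Nat.Prime 2) := ⟨Nat.prime_two⟩
  obtain ⟨P, hz, hE, hEc, hC, -⟩ := h
  have hn : (pCore 2 ↥(centralizer ({z} : Set G))).Normal := inferInstance
  refine DB.of_centric (pCore 2 ↥(centralizer ({z} : Set G))) ?_ ?_
  · exact Cfsg.Agent.Lib.Cores.pCore_isPGroup 2
  · intro y hy
    have h1 : (y : G) ∈ twoCoreOfCentralizer z := by
      apply hC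
      refine ⟨y.2, ?_⟩
      show (y : G) ∈ centralizer (twoCoreOfCentralizer z : Set G)
      rw [mem_centralizer_iff]
      rintro _ ⟨e, he, rfl⟩
      exact congrArg Subtype.val (mem_centralizer_iff.1 hy e he)
    obtain ⟨e, he, hey⟩ := h1
    have h2 : e = y := Subtype.ext hey
    rwa [← h2]

/-- one 2-block in the centralizers of the involutions -/
theorem one_block [IsSimpleGroup G] (hG : ¬ IsMulCommutative G) {z : G} (h : IsOfJankoFourTypeAt z) {t : G}
    (ht : orderOf t = 2) {d : ℕ} : DB 2 d ↥(centralizer ({t} : Set G)) := by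
  have : Fact (Nat.Prime 2) := ⟨Nat.prime_two⟩
  by_cases hzt : IsConj z t
  · obtain ⟨g, hg⟩ := isConj_iff.1 hzt
    have h1 : (centralizer ({z} : Set G)).map (MulAut.conj g).toMonoidHom = centralizer ({t} : Set G) := by
      ext y
      constructor
      · rintro ⟨x, hx, rfl⟩
        have hx' := mem_centralizer_singleton_iff.1 hx
        rw [mem_centralizer_singleton_iff]
        show g * x * g⁻¹ * t = t * (g * x * g⁻¹)
        rw [← hg]
        calc g * x * g⁻¹ * (g * z * g⁻¹) = g * (x * z) * g⁻¹ := by group
          _ = g * z * g⁻¹ * (g * x * g⁻¹) := by rw [hx']; group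
      · intro hy
        have hy' := mem_centralizer_singleton_iff.1 hy
        rw [← hg] at hy'
        refine ⟨g⁻¹ * y * g, mem_centralizer_singleton_iff.2 ?_, ?_⟩
        · calc g⁻¹ * y * g * z = g⁻¹ * (y * (g * z * g⁻¹)) * g := by group
            _ = z * (g⁻¹ * y * g) := by rw [hy']; group
        · show g * (g⁻¹ * y * g) * g⁻¹ = y
          group
    rw [← h1]
    exact DB.of_equiv ((centralizer ({z} : Set G)).equivMapOfInjective
      (MulAut.conj g).toMonoidHom (MulAut.conj g).injective).symm (one_block_z h)
  · obtain ⟨V, K, hV, hK, hn, hea, hc, hi, hs, -⟩ := Cfsg.Agent.S5569.result hG z h t ht hzt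
    have hVC := (Cfsg.Agent.S5567.result hG ⟨z, h⟩ V hea hc).1
    have hN : (V.subgroupOf (centralizer ({t} : Set G))).Normal := by
      constructor
      intro x hx y
      rw [mem_subgroupOf] at hx ⊢
      exact ((mem_normalizer_iff.1 (hn y.2)) x).1 hx
    refine DB.of_centric (V.subgroupOf (centralizer ({t} : Set G))) ?_ ?_
    · rw [IsPGroup.iff_card]
      exact ⟨11, by rw [← hc]; exact Nat.card_congr (subgroupOfEquivOfLe hV).toEquiv⟩
    · intro y hy
      rw [mem_subgroupOf]
      apply hVC
      rw [mem_centralizer_iff]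
      intro v hv
      exact congrArg Subtype.val (mem_centralizer_iff.1 hy ⟨v, hV hv⟩ hv)

end

open Cfsg.Agent.H877.IMJ4 (simple nonab finJ4 real29 im_model)

attribute [local instance] finJ4

theorem nb2 : NB 2 21 Spor.J4 := by
  have : Fact (Nat.Prime 2) := ⟨Nat.prime_two⟩
  have hsim : IsSimpleGroup Spor.J4 := simple
  obtain ⟨z, hz⟩ := Cfsg.Agent.H337.isOfJankoFourType_of_isoJ4 (G := Spor.J4) ⟨MulEquiv.refl _⟩
  refine NB.of_one_block ?_ fun x hx => one_block nonab hz hx
  rw [Cfsg.Agent.S1703.result.2]
  norm_num

theorem nb_big {q : ℕ} (hq : q = 23 ∨ q = 29 ∨ q = 31 ∨ q = 37 ∨ q = 43) : NB q 1 Spor.J4 := by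
  have : Fact q.Prime := ⟨prime_big hq⟩
  obtain ⟨y, hy⟩ := exists_prime_order (prime_big hq) (by
    rcases hq with rfl | rfl | rfl | rfl | rfl <;> norm_num)
  refine NB.of_self (g := y) ?_ ⟨1, by rw [pow_one, hy]⟩
  rw [IsPGroup.iff_card]
  exact ⟨1, by rw [pow_one]; exact cent_big hq hy⟩

/-- **The row of `J4`**, given the Ito-Michler rows. -/
theorem row_of {p : ℕ} (hp : p.Prime) (hp2 : p ≠ 2) (him : IM p Spor.J4) : Row p Spor.J4 := by
  have hcard := Cfsg.Agent.S1703.result.2
  have h2 : (2 : ℕ).Prime ∧ 2 ≠ p ∧ 2 ∣ Nat.card Spor.J4 ∧ NB 2 21 Spor.J4 :=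
    ⟨Nat.prime_two, fun h => hp2 h.symm, by rw [hcard]; norm_num, nb2⟩
  have hbig : ∀ q : ℕ, (q = 29 ∨ q = 37 ∨ q = 43) → q ≠ p →
      q.Prime ∧ q ≠ p ∧ q ∣ Nat.card Spor.J4 ∧ NB q 1 Spor.J4 := by
    rintro q (rfl | rfl | rfl) hqp
    · exact ⟨by norm_num, hqp, by rw [hcard]; norm_num, nb_big (by simp)⟩
    · exact ⟨by norm_num, hqp, by rw [hcard]; norm_num, nb_big (by simp)⟩
    · exact ⟨by norm_num, hqp, by rw [hcard]; norm_num, nb_big (by simp)⟩
  have h3 : 3 ≤ p := by
    have := hp.two_le
    omega
  by_cases h37 : p = 37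
  · subst h37
    refine Row.of_IM hp him [(2, 21), (29, 1), (43, 1)] (by decide) ?_ ?_
    · intro x hx
      simp only [List.mem_cons, List.not_mem_nil, or_false] at hx
      rcases hx with rfl | rfl | rfl
      · exact h2
      · exact hbig 29 (by simp) (by norm_num)
      · exact hbig 43 (by simp) (by norm_num)
    · rw [hcard]; norm_num
  by_cases h43 : p = 43
  · subst h43
    refine Row.of_IM hp him [(2, 21), (29, 1), (37, 1)] (by decide) ?_ ?_
    · intro x hx
      simp only [List.mem_cons, List.not_mem_nil, or_false] at hx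
      rcases hx with rfl | rfl | rfl
      · exact h2
      · exact hbig 29 (by simp) (by norm_num)
      · exact hbig 37 (by simp) (by norm_num)
    · rw [hcard]; norm_num
  · refine Row.of_IM hp him [(2, 21), (37, 1), (43, 1)] (by decide) ?_ ?_
    · intro x hx
      simp only [List.mem_cons, List.not_mem_nil, or_false] at hx
      rcases hx with rfl | rfl | rfl
      · exact h2
      · exact hbig 37 (by simp) (fun h => h37 h.symm)
      · exact hbig 43 (by simp) (fun h => h43 h.symm)
    · rw [hcard]
      have h4 : (3 * 3336568832) ^ 2 ≤ (p * 3336568832) ^ 2 := Nat.pow_le_pow_left (Nat.mul_le_mul_right _ h3) 2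
      refine lt_of_lt_of_le (by norm_num) (h4.trans (le_of_eq ?_))
      norm_num

theorem row_two : Row 2 Spor.J4 := by
  have : Fact (Nat.Prime 29) := ⟨by norm_num⟩
  obtain ⟨y, hy, hyr, hyC⟩ := real29
  refine Row.of_real_odd (q := 29) (g := y) ⟨1, by rw [hy, pow_one]⟩ (fun h => ?_) hyr (by rw [hyC]; decide)
  rw [h, orderOf_one] at hy
  omega

theorem row_model {p : ℕ} (hp : p.Prime) (hd : p ∣ Nat.card Spor.J4) : Row p Spor.J4 := by
  by_cases hp2 : p = 2
  · subst hp2
    exact row_two
  · exact row_of hp hp2 (im_model hp hd)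

/-- **The row of `J4` for S4826.** -/
theorem row_j4 {S : Type u} [Group S] (h : Cfsg.Spor.IsoJ4 S) {p : ℕ} (hp : p.Prime) (hd : p ∣ Nat.card S) :
    Cfsg.Agent.H133.PB.Row p S := by
  obtain ⟨e⟩ := h
  have hfin : Finite S := Finite.of_equiv _ e.symm.toEquiv
  exact Row.of_equiv e (row_model hp (by rw [← Nat.card_congr e.toEquiv]; exact hd))

end Cfsg.Agent.H877.PBJ4
end
end
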